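import Groth.Prelude.Def_KRR
import Groth.Agent.CohqB.RelVan
import Groth.Agent.CohqA.RpushLoc
import Groth.Agent.Ega3A.PChart
import Groth.Agent.Ega3B.ProjProper
import Groth.Agent.Ega3B.RpushAbCmp
import Groth.Agent.PerfA.Restrict
import Groth.Agent.Sga67.PushLocal
import Groth.Agent.Sga67.TwistOver
import Groth.Agent.Ega1.TensorRestrict
import Groth.Agent.Ega2.QCohLocal

/-!
# Higher direct images on `P^r_Y` and cohomology on the charts

For a quasi-coherent module `F` on `P^r_Y`, `R^q p_* F = 0` (as abelian sheaves, `Coh.RpushAb`) iff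
`H^q(P^r_A, F|) = 0` on every chart `P^r_A ⟶ P^r_Y` over `h : Spec A ⟶ Y` an open immersion.
* `isZero_Rpush_iff_HH`: the case of an affine target.
* `subsingleton_chart_of_isZero`, `isZero_of_subsingleton_chart`: the two directions.
* `subsingleton_chart_of_isRegSheaf`, `isRegSheaf_of_charts`: the same for `KRR.IsRegSheaf`.
-/

set_option autoImplicit false

universe u

open CategoryTheory CategoryTheory.Limits AlgebraicGeometry Opposite TopologicalSpace

namespace Groth.Agent.Krr.H497.Bridge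

open Groth.Agent.CohqB.RelVan Groth.Agent.Ega3A

variable {X S : Scheme.{u}}

/-- `f` qcqs, target affine: `R^p f_* M = 0` implies `H^p(X, M) = 0`. -/
theorem subsingleton_HH_of_isZero_Rpush [IsAffine S] (f : X ⟶ S) [QuasiCompact f] [QuasiSeparated f]
    (M : X.Modules) (hM : Coh.IsQCoh M) (p : ℕ) (h : IsZero ((Coh.Rpush f p).obj M)) :
    Subsingleton (Coh.HH X M p) := by
  obtain ⟨e⟩ := Ega3B.RpushAbCmp.nonempty_toAb_Rpush_iso f M p
  obtain ⟨e'⟩ := S0032.result f M p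
  have h1 : IsZero (Coh.toAb ((Coh.Rpush f p).obj M)) := (Ega3B.RpushAbCmp.isZero_toAb_iff _).2 h
  have h2 : IsZero ((Coh.RpushAb f p).obj (Coh.toAb M)) := h1.of_iso e.symm
  have h3 : IsZero (((Coh.RpushAb f p).obj (Coh.toAb M)).obj.obj (op ⊤)) :=
    Functor.map_isZero (sheafToPresheaf (Opens.grothendieckTopology S) AddCommGrpCat.{u} ⋙
      (evaluation _ _).obj (op ⊤)) h2
  have h4 : Subsingleton (((Coh.RpushAb f p).obj (Coh.toAb M)).obj.obj (op ⊤)) :=
    AddCommGrpCat.subsingleton_of_isZero h3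
  exact e'.toEquiv.subsingleton

theorem isZero_Rpush_iff_HH [IsAffine S] (f : X ⟶ S) [QuasiCompact f] [QuasiSeparated f]
    (M : X.Modules) (hM : Coh.IsQCoh M) (p : ℕ) :
    IsZero ((Coh.Rpush f p).obj M) ↔ Subsingleton (Coh.HH X M p) :=
  ⟨subsingleton_HH_of_isZero_Rpush f M hM p, isZero_Rpush f M hM p⟩

section ProjSpace

variable {r : ℕ} {Y : Scheme.{u}}

/-- A chart computes the restriction of `R^q p_* F` to `Spec A`. -/
noncomputable def rpushChart (r : ℕ) {A : Type u} [CommRing A] (h : Spec (CommRingCat.of A) ⟶ Y)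
    [IsOpenImmersion h] (F : (CohB1.ProjSpaceOver r Y).Modules) (q : ℕ) :
    ((Coh.Rpush (CohB1.ProjSpaceOver.toBase r Y) q).obj F).restrict h ≅
      (Coh.Rpush (CohB1.ProjSpace.toSpec r A) q).obj (F.restrict (PChart.chart r h)) :=
  (CohqA.RpushLoc.rpushRes (PChart.isPullback_chart r h).flip q).app F

theorem subsingleton_chart_of_isZero {F : (CohB1.ProjSpaceOver r Y).Modules} (hF : Coh.IsQCoh F)
    {q : ℕ} (hz : IsZero ((Coh.RpushAb (CohB1.ProjSpaceOver.toBase r Y) q).obj (Coh.toAb F)))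
    {A : Type u} [CommRing A] (h : Spec (CommRingCat.of A) ⟶ Y) [IsOpenImmersion h] :
    Subsingleton (Coh.HH (CohB1.ProjSpace r A) (F.restrict (PChart.chart r h)) q) := by
  have h1 : IsZero ((Coh.Rpush (CohB1.ProjSpaceOver.toBase r Y) q).obj F) :=
    (Ega3B.RpushAbCmp.isZero_RpushAb_iff _ F q).1 hz
  have h2 : IsZero (((Coh.Rpush (CohB1.ProjSpaceOver.toBase r Y) q).obj F).restrict h) :=
    Functor.map_isZero (Scheme.Modules.restrictFunctor h) h1
  have hprop := Ega3B.ProjProper.isProper_toSpec r A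
  exact subsingleton_HH_of_isZero_Rpush (CohB1.ProjSpace.toSpec r A) _
    (PerfA.QCohSerre.isQCoh_restrict _ hF) q (h2.of_iso (rpushChart r h F q).symm)

theorem isZero_of_subsingleton_chart {F : (CohB1.ProjSpaceOver r Y).Modules} (hF : Coh.IsQCoh F)
    {q : ℕ} {ι : Type*} {A : ι → Type u} [∀ i, CommRing (A i)]
    (h : ∀ i, Spec (CommRingCat.of (A i)) ⟶ Y) [∀ i, IsOpenImmersion (h i)]
    (hs : ∀ s : Y, ∃ i, s ∈ Set.range (h i))
    (hv : ∀ i, Subsingleton (Coh.HH (CohB1.ProjSpace r (A i)) (F.restrict (PChart.chart r (h i))) q)) :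
    IsZero ((Coh.RpushAb (CohB1.ProjSpaceOver.toBase r Y) q).obj (Coh.toAb F)) := by
  rw [Ega3B.RpushAbCmp.isZero_RpushAb_iff]
  refine PerfA.Restrict.isZero_of_restrict _ fun x => ?_
  obtain ⟨i, y, hy⟩ := hs x
  refine ⟨_, h i, inferInstance, y, hy, ?_⟩
  have hprop := Ega3B.ProjProper.isProper_toSpec r (A i)
  exact (isZero_Rpush (CohB1.ProjSpace.toSpec r (A i)) _ (PerfA.QCohSerre.isQCoh_restrict _ hF) q
    (hv i)).of_iso (rpushChart r (h i) F q)

theorem isQCoh_tw (d : ℤ) {F : (CohB1.ProjSpaceOver r Y).Modules} (hF : Coh.IsQCoh F) :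
    Coh.IsQCoh ((Sga67.TwistOver.tw r Y d).obj F) :=
  Ega1.TensorRestrict.isQCoh_tensorMod _ _
    (Ega2.QCohLocal.isQCoh_of_isInvertible (Ega3B.ProjFrame.isInvertible_twistOver r d)) hF

/-- Regularity in terms of the charts, one direction. -/
theorem subsingleton_chart_of_isRegSheaf {F : (CohB1.ProjSpaceOver r Y).Modules} (hF : Coh.IsQCoh F)
    (hreg : KRR.IsRegSheaf r Y F) {A : Type u} [CommRing A] (h : Spec (CommRingCat.of A) ⟶ Y)
    [IsOpenImmersion h] (q : ℕ) (hq : 1 ≤ q) :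
    Subsingleton (Coh.HH (CohB1.ProjSpace r A)
      (((Sga67.TwistOver.tw r Y (-(q : ℤ))).obj F).restrict (PChart.chart r h)) q) :=
  subsingleton_chart_of_isZero (isQCoh_tw _ hF) (hreg q hq) h

/-- Regularity in terms of the charts, the other direction. -/
theorem isRegSheaf_of_charts {F : (CohB1.ProjSpaceOver r Y).Modules} (hF : Coh.IsQCoh F)
    {ι : Type*} {A : ι → Type u} [∀ i, CommRing (A i)]
    (h : ∀ i, Spec (CommRingCat.of (A i)) ⟶ Y) [∀ i, IsOpenImmersion (h i)]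
    (hs : ∀ s : Y, ∃ i, s ∈ Set.range (h i))
    (hv : ∀ i (q : ℕ), 1 ≤ q → Subsingleton (Coh.HH (CohB1.ProjSpace r (A i))
      (((Sga67.TwistOver.tw r Y (-(q : ℤ))).obj F).restrict (PChart.chart r (h i))) q)) :
    KRR.IsRegSheaf r Y F := fun q hq =>
  isZero_of_subsingleton_chart (isQCoh_tw _ hF) h hs fun i => hv i q hq

/-- Every scheme is covered by spectra. -/
theorem exists_charts_big (Y : Scheme.{u}) : ∃ (ι : Type u) (A : ι → Type u) (_ : ∀ i, CommRing (A i))
    (h : ∀ i, Spec (CommRingCat.of (A i)) ⟶ Y), (∀ i, IsOpenImmersion (h i)) ∧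
      ∀ s : Y, ∃ i, s ∈ Set.range (h i) := by
  refine ⟨Y.affineOpens, fun V => Γ(Y, V.1), fun V => inferInstance, fun V => V.2.fromSpec,
    fun V => inferInstance, fun s => ?_⟩
  obtain ⟨_, ⟨V, hV, rfl⟩, hs, -⟩ := Y.isBasis_affineOpens.exists_subset_of_mem_open
    (Set.mem_univ s) isOpen_univ
  refine ⟨⟨V, hV⟩, ?_⟩
  have h1 := hV.range_fromSpec
  exact h1.symm ▸ hs

end ProjSpace

end Groth.Agent.Krr.H497.Bridge
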