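import Groth.Agent.Ega3A.K0Proj

/-!
# The push-forward on `K₀` in the abstract projective bundle theorem

With the hypotheses `K0Proj.Hyp`: the classes `t^i f^*(E)`, `0 ≤ i ≤ r`, generate `K₀(P)` and there is an additive map
`push : K₀(P) → K₀(S)` with `push [F] = [f_* F]` for all regular `F`.
-/

set_option autoImplicit false

universe v' u' v u

open CategoryTheory CategoryTheory.Limits Filter Finset

namespace Groth.Agent.Krr.H497.KAbs

open Groth.Agent.Sga67.K0Loc KZero Groth.Agent.Ega3A.K0Proj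

variable {S : Type u} [Category.{v} S] [Abelian S] {P : Type u'} [Category.{v'} P] [Abelian P]

variable {VS : ObjectProperty S} {VP : ObjectProperty P} {r : ℕ}
    {fs : S ⥤ P} {T : ℕ → P ⥤ P} {T' : P ⥤ P} {fp : P → S} {Reg : ObjectProperty P}
    [fs.Additive] [PreservesFiniteLimits fs] [PreservesFiniteColimits fs]
    [∀ i, (T i).Additive] [∀ i, PreservesFiniteLimits (T i)] [∀ i, PreservesFiniteColimits (T i)]
    [T'.Additive] [PreservesFiniteLimits T'] [PreservesFiniteColimits T']
    (H : Hyp VS VP r fs T T' fp Reg)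

include H

omit [T'.Additive] [PreservesFiniteLimits T'] [PreservesFiniteColimits T'] in
/-- The relation given by the canonical resolution of a regular bundle, with the first coefficient. -/
theorem resolution' (F : P) (hF : Reg F) (hF' : VP F) : ∃ e : ℕ → K0sub VS,
    e 0 = mk VS (fp F) (H.fp_mem _ hF) ∧ t H (r + 1) (mk VP F hF') =
      ∑ i ∈ range (r + 1), (-1 : ℤ) ^ i • t H (r + 1 - i) (f H (e i)) := by
  obtain ⟨L, K, rfl, hL, hLV, hK, hex, hit, hz⟩ := H.resol F hF hF'
  let a : ℕ → K0sub VP := fun i => mk VP (L i) (hLV i)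
  let e : ℕ → K0sub VS := fun i => mk VS (fp (L i)) (H.fp_mem _ (hL i))
  have ha : ∀ i, t H 1 (a i) = t H 1 (f H (e i)) - a (i + 1) := by
    intro i
    obtain ⟨α, β, w, hS⟩ := hex i
    have h1 := mk_shortExact hS (hK i) (H.fs_mem _ (H.fp_mem _ (hL i))) (hLV i)
    have h2 : a (i + 1) = t H 1 (mk VP (K i) (hK i)) := by
      rw [t_mk]
      exact mkP_congr H (hit i) _ _
    rw [h2, f_mk, eq_sub_iff_add_eq, ← map_add, add_comm]
    exact congrArg _ h1.symm
  have key : ∀ m, t H m (a 0) =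
      ∑ i ∈ range m, (-1 : ℤ) ^ i • t H (m - i) (f H (e i)) + (-1 : ℤ) ^ m • a m := by
    intro m
    induction m with
    | zero => simp [t_zero]
    | succ m ih =>
      have h1 : t H (m + 1) (a 0) = t H 1 (t H m (a 0)) := by rw [t_add, add_comm]
      rw [h1, ih, map_add, map_sum, map_zsmul, ha, sum_range_succ, smul_sub]
      have h2 : ∑ i ∈ range m, t H 1 ((-1 : ℤ) ^ i • t H (m - i) (f H (e i))) =
          ∑ i ∈ range m, (-1 : ℤ) ^ i • t H (m + 1 - i) (f H (e i)) := by
        refine sum_congr rfl fun i hi => ?_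
        rw [map_zsmul, t_add]
        congr 3
        have := mem_range.1 hi
        omega
      rw [h2]
      have h3 : m + 1 - m = 1 := by omega
      rw [h3, pow_succ, mul_neg_one, neg_smul]
      abel
  refine ⟨e, rfl, ?_⟩
  have h1 := key (r + 1)
  have h2 : a (r + 1) = 0 := mk_of_isZero hz _
  rw [h2, smul_zero, add_zero] at h1
  exact h1

/-- The relation given by the canonical resolution, after one untwist. -/
theorem resolution_r (F : P) (hF : Reg F) (hF' : VP F) : ∃ e : ℕ → K0sub VS,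
    e 0 = mk VS (fp F) (H.fp_mem _ hF) ∧ t H r (mk VP F hF') =
      ∑ i ∈ range (r + 1), t H (r - i) (f H ((-1 : ℤ) ^ i • e i)) := by
  obtain ⟨e, he0, he⟩ := resolution' H F hF hF'
  refine ⟨e, he0, ?_⟩
  apply t_one_injective H
  rw [t_add, map_sum, add_comm 1 r, he]
  refine sum_congr rfl fun i hi => ?_
  rw [map_zsmul, map_zsmul, map_zsmul, t_add]
  congr 3
  have := mem_range.1 hi
  omega

/-- The additive bijection of the projective bundle theorem. -/
noncomputable def ΨEquiv : (Fin (r + 1) → K0sub VS) ≃+ K0sub VP :=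
  AddEquiv.ofBijective (Ψ H) ⟨Ψ_injective H, Ψ_surjective H⟩

/-- The push-forward on `K₀`. -/
noncomputable def push : K0sub VP →+ K0sub VS :=
  ((Pi.evalAddMonoidHom (fun _ : Fin (r + 1) => K0sub VS) (Fin.last r)).comp
    (ΨEquiv H).symm.toAddMonoidHom).comp (t H r)

theorem push_of_expr (y : K0sub VP) (e : ℕ → K0sub VS)
    (h : t H r y = ∑ i ∈ range (r + 1), t H (r - i) (f H (e i))) : push H y = e 0 := by
  let x : Fin (r + 1) → K0sub VS := fun i => e (r - i)
  have h1 : Ψ H x = t H r y := by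
    rw [Ψ_apply, h, ← sum_range_reflect, ← Fin.sum_univ_eq_sum_range
      (fun j => t H (r - (r + 1 - 1 - j)) (f H (e (r + 1 - 1 - j))))]
    refine sum_congr rfl fun i _ => ?_
    have e1 : r - (r + 1 - 1 - (i : ℕ)) = i := by have := i.2; omega
    rw [e1]
    rfl
  change (ΨEquiv H).symm (t H r y) (Fin.last r) = e 0
  rw [← h1]
  have h2 : (ΨEquiv H).symm (Ψ H x) = x := (ΨEquiv H).symm_apply_apply x
  rw [h2]
  simp [x]

/-- `push [F] = [f_* F]` for regular `F`. -/
theorem push_mk (F : P) (hF : Reg F) (hF' : VP F) :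
    push H (mk VP F hF') = mk VS (fp F) (H.fp_mem _ hF) := by
  obtain ⟨e, he0, he⟩ := resolution_r H F hF hF'
  rw [push_of_expr H _ (fun i => (-1 : ℤ) ^ i • e i) he]
  simp [he0]

/-- The classes `t^i f^* [E]` generate. -/
theorem closure_eq_top : AddSubgroup.closure {x : K0sub VP | ∃ (i : ℕ) (_ : i ≤ r) (E : S) (hE : VS E),
    x = mk VP ((T i).obj (fs.obj E)) (H.T_mem i _ (H.fs_mem E hE))} = ⊤ := by
  rw [eq_top_iff]
  rintro y -
  obtain ⟨x, rfl⟩ := Ψ_surjective H y
  rw [Ψ_apply]
  refine sum_mem fun i _ => ?_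
  have hmem : ∀ z : K0sub VS, t H (i : ℕ) (f H z) ∈ AddSubgroup.closure {x : K0sub VP |
      ∃ (i : ℕ) (_ : i ≤ r) (E : S) (hE : VS E),
        x = mk VP ((T i).obj (fs.obj E)) (H.T_mem i _ (H.fs_mem E hE))} := by
    intro z
    have htop := eq_top_of_mk_mem ((AddSubgroup.closure {x : K0sub VP |
      ∃ (i : ℕ) (_ : i ≤ r) (E : S) (hE : VS E),
        x = mk VP ((T i).obj (fs.obj E)) (H.T_mem i _ (H.fs_mem E hE))}).comap
          ((t H (i : ℕ)).comp (f H))) (fun E hE => ?_)
    · have : z ∈ (AddSubgroup.closure {x : K0sub VP |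
        ∃ (i : ℕ) (_ : i ≤ r) (E : S) (hE : VS E),
          x = mk VP ((T i).obj (fs.obj E)) (H.T_mem i _ (H.fs_mem E hE))}).comap
            ((t H (i : ℕ)).comp (f H)) := by rw [htop]; trivial
      exact this
    · refine AddSubgroup.subset_closure ⟨i, by have := i.2; omega, E, hE, ?_⟩
      rw [AddMonoidHom.comp_apply, f_mk, t_mk]
  exact hmem _

end Groth.Agent.Krr.H497.KAbs
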