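import Groth.Agent.Krr.H497.Reg
import Groth.Agent.Krr.H497.KAbs
import Groth.Agent.Sga5.ProjSmooth
import Groth.Agent.Sga67.FlatPre

/-!
# The push-forward `p_K` on `K₀` of bundles for `p : P^n_Y ⟶ Y`, `Y` Noetherian

* `exists_push`: there is an additive map `g : Kvb (P^n_Y) →+ Kvb Y` with `g [F] = [p_* F]` for regular `F`.
* `closure_reg_eq_top`, `closure_pull_eq_top`: the classes of regular bundles (of `O(i) ⊗ p^* E`, `0 ≤ i ≤ n`) generate
  `Kvb (P^n_Y)`.
* `hom_ext_reg`, `hom_ext_pull`: additive maps agreeing on these classes are equal.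
-/

set_option autoImplicit false

universe w u

open CategoryTheory CategoryTheory.Limits AlgebraicGeometry Opposite TopologicalSpace

namespace Groth.Agent.Krr.H497.PushK

open Groth.Agent.Krr.H497.Bridge Groth.Agent.Krr.H497.Reg Groth.Agent.Ega3A Groth.Agent.Sga67
  Groth.Agent.Sga67.TwistOver Groth.Agent.Sga67.TwistProj Groth.Agent.Sga67.HypFields559 Groth.Agent.Sga67.K0Loc

variable (n : ℕ) (Y : Scheme.{u})

theorem flat_toSpec (n : ℕ) (A : Type u) [CommRing A] : Flat (CohB1.ProjSpace.toSpec n A) := by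
  have := Sga5.ProjSmooth.smooth_toSpec n A
  have : Smooth (CohB1.ProjSpace.toSpec n A) := SmoothOfRelativeDimension.smooth n _
  infer_instance

theorem flat_toBase : Flat (CohB1.ProjSpaceOver.toBase n Y) :=
  MorphismProperty.of_isPullback (CohqB.ProjBC.isPullback_fstZ n Y) (flat_toSpec n _)

theorem preservesFiniteLimits_pull :
    PreservesFiniteLimits (Scheme.Modules.pullback (CohB1.ProjSpaceOver.toBase n Y)) :=
  have := flat_toBase n Y
  Sga67.FlatPre.preservesFiniteLimits_pullback _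

/-- There is an additive map `p_K` on `K₀` of bundles with `p_K [F] = [p_* F]` for regular `F`, and the classes of
`O(i) ⊗ p^* E` (`0 ≤ i ≤ n`) generate. -/
theorem main [IsNoetherian Y] :
    (∃ g : SGA6.Kvb (KRR.PY n Y) →+ SGA6.Kvb Y, ∀ F : (KRR.PY n Y).Modules, FlatMod.IsFinLocFree F →
      KRR.IsRegSheaf n Y F →
        g (KRR.cl (KRR.PY n Y) F) = KRR.cl Y ((Scheme.Modules.pushforward (KRR.pr n Y)).obj F)) ∧
    AddSubgroup.closure {x : SGA6.Kvb (KRR.PY n Y) | ∃ (i : ℕ) (_ : i ≤ n) (E : Y.Modules)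
      (_ : FlatMod.IsFinLocFree E), x = KRR.cl (KRR.PY n Y) (KRR.twF n Y (i : ℤ)
        ((Scheme.Modules.pullback (KRR.pr n Y)).obj E))} = ⊤ := by
  obtain ⟨m, A, inst, h, hopen, hs⟩ := S3197.exists_charts Y
  have hT' : PreservesFiniteLimits (tw n Y (-1)) := preservesFiniteLimits_tw n Y (-1)
  have hT'' : PreservesFiniteColimits (tw n Y (-1)) := preservesFiniteColimits_tw n Y (-1)
  have hT1 : ∀ i : ℕ, PreservesFiniteLimits (tw n Y (i : ℤ)) := fun i => preservesFiniteLimits_tw n Y i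
  have hT2 : ∀ i : ℕ, PreservesFiniteColimits (tw n Y (i : ℤ)) :=
    fun i => preservesFiniteColimits_tw n Y i
  have hA' : (tw n Y (-1)).Additive := Functor.additive_of_preserves_binary_products _
  have hA1 : ∀ i : ℕ, (tw n Y (i : ℤ)).Additive := fun i => Functor.additive_of_preserves_binary_products _
  have hp2 : PreservesFiniteLimits (Scheme.Modules.pullback (CohB1.ProjSpaceOver.toBase n Y)) :=
    preservesFiniteLimits_pull n Y
  have hp3 : (Scheme.Modules.pullback (CohB1.ProjSpaceOver.toBase n Y)).Additive :=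
    Functor.additive_of_preserves_binary_products _
  have H := S3197.hyp Y n A h hs
  refine ⟨⟨KAbs.push H, fun F hF hreg => ?_⟩, ?_⟩
  · have h1 : RegF n A h F := regF_of_isRegSheaf hF hreg A h
    have h2 := KAbs.push_mk H F h1 hF
    rw [← clSub_eq_mk, ← clSub_eq_mk] at h2
    exact h2
  · have h1 := KAbs.closure_eq_top H
    rw [eq_top_iff, ← h1]
    refine AddSubgroup.closure_mono ?_
    rintro _ ⟨i, hi, E, hE, rfl⟩
    exact ⟨i, hi, E, hE, (clSub_eq_mk _ _).symm⟩

variable {n Y}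

/-- Additive maps on `Kvb (P^n_Y)` agreeing on the classes of `O(i) ⊗ p^* E`, `0 ≤ i ≤ n`, are equal. -/
theorem hom_ext_pull [IsNoetherian Y] {G : Type*} [AddGroup G] {g₁ g₂ : SGA6.Kvb (KRR.PY n Y) →+ G}
    (h : ∀ i : ℕ, i ≤ n → ∀ E : Y.Modules, FlatMod.IsFinLocFree E →
      g₁ (KRR.cl (KRR.PY n Y) (KRR.twF n Y (i : ℤ) ((Scheme.Modules.pullback (KRR.pr n Y)).obj E))) =
      g₂ (KRR.cl (KRR.PY n Y) (KRR.twF n Y (i : ℤ) ((Scheme.Modules.pullback (KRR.pr n Y)).obj E)))) :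
    g₁ = g₂ := by
  refine AddMonoidHom.eq_of_eqOn_dense (main n Y).2 ?_
  rintro _ ⟨i, hi, E, hE, rfl⟩
  exact h i hi E hE

/-- Additive maps on `Kvb (P^n_Y)` agreeing on the classes of regular bundles are equal. -/
theorem hom_ext_reg [IsNoetherian Y] {G : Type*} [AddGroup G] {g₁ g₂ : SGA6.Kvb (KRR.PY n Y) →+ G}
    (h : ∀ F : (KRR.PY n Y).Modules, FlatMod.IsFinLocFree F → KRR.IsRegSheaf n Y F →
      g₁ (KRR.cl (KRR.PY n Y) F) = g₂ (KRR.cl (KRR.PY n Y) F)) : g₁ = g₂ :=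
  hom_ext_pull fun i _ E hE => h _
    (isFinLocFree_tw n Y i _ (PerfB.FlatPull.isFinLocFree_pullback _ hE))
    (isRegSheaf_tw_pull hE i (Int.natCast_nonneg i))

/-- The push-forward `p_K : Kvb (P^n_Y) → Kvb Y`. -/
noncomputable def push (n : ℕ) (Y : Scheme.{u}) [IsNoetherian Y] : SGA6.Kvb (KRR.PY n Y) →+ SGA6.Kvb Y :=
  (main n Y).1.choose

theorem push_cl [IsNoetherian Y] {F : (KRR.PY n Y).Modules} (hF : FlatMod.IsFinLocFree F)
    (hreg : KRR.IsRegSheaf n Y F) : push n Y (KRR.cl (KRR.PY n Y) F) =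
      KRR.cl Y ((Scheme.Modules.pushforward (KRR.pr n Y)).obj F) :=
  (main n Y).1.choose_spec F hF hreg

end Groth.Agent.Krr.H497.PushK
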