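import Groth.Agent.Krr.H497.Bridge
import Groth.Agent.S3197
import Groth.Agent.S0038
import Groth.Agent.S0022
import Groth.Agent.PerfA.CohSerre

/-!
# Regular bundles on `P^r_Y`, `Y` Noetherian: `KRR.IsRegSheaf` versus `HypFields559.RegF`

* `isNoetherianRing_chart`: charts of a locally Noetherian scheme are Noetherian.
* `regF_of_isRegSheaf`: a finite locally free `F` with `KRR.IsRegSheaf` satisfies `RegF` for every covering family
  of charts; hence `p_* F` is finite locally free.
* `isRegSheaf_of_regF`.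
* `isRegSheaf_tw_pull`: `O(i) ⊗ p^* E` is regular for `E` finite locally free and `i ≥ 0`.
-/

set_option autoImplicit false

universe u

open CategoryTheory CategoryTheory.Limits AlgebraicGeometry Opposite TopologicalSpace

namespace Groth.Agent.Krr.H497.Reg

open Groth.Agent.Krr.H497.Bridge Groth.Agent.Ega3A Groth.Agent.Sga67 Groth.Agent.Sga67.TwistOver
  Groth.Agent.Sga67.TwistProj Groth.Agent.Sga67.HypFields559

variable {r : ℕ} {Y : Scheme.{u}}

theorem isQCoh_of_flf {X : Scheme.{u}} {F : X.Modules} (hF : FlatMod.IsFinLocFree F) : Coh.IsQCoh F :=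
  PerfA.QCohEpi.isQCoh_of_isFinLocFree hF

theorem isNoetherianRing_chart [IsLocallyNoetherian Y] {A : Type u} [CommRing A]
    (h : Spec (CommRingCat.of A) ⟶ Y) [IsOpenImmersion h] : IsNoetherianRing A := by
  have h1 : IsLocallyNoetherian (Spec (CommRingCat.of A)) := isLocallyNoetherian_of_isOpenImmersion h
  exact isLocallyNoetherian_Spec.1 h1

/-- Chartwise regularity of a regular quasi-coherent module. -/
theorem reg_chart {F : (CohB1.ProjSpaceOver r Y).Modules} (hF : Coh.IsQCoh F)
    (hreg : KRR.IsRegSheaf r Y F) {A : Type u} [CommRing A] (h : Spec (CommRingCat.of A) ⟶ Y)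
    [IsOpenImmersion h] : CMReg.Reg (F.restrict (PChart.chart r h)) 0 := by
  rw [reg_iff]
  intro q hq _
  rw [zero_sub]
  exact Fga.HShift.subsingleton_of_iso (PChart.restrictTensorIso r h (-(q : ℤ)) F) q
    (subsingleton_chart_of_isRegSheaf hF hreg h q hq)

/-- A quasi-coherent module whose restriction to the charts of a covering family is `0`-regular is regular. -/
theorem isRegSheaf_of_reg_charts {F : (CohB1.ProjSpaceOver r Y).Modules} (hF : Coh.IsQCoh F)
    {ι : Type*} {A : ι → Type u} [∀ i, CommRing (A i)]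
    (h : ∀ i, Spec (CommRingCat.of (A i)) ⟶ Y) [∀ i, IsOpenImmersion (h i)]
    (hs : ∀ s : Y, ∃ i, s ∈ Set.range (h i))
    (hv : ∀ i, CMReg.Reg (F.restrict (PChart.chart r (h i))) 0) : KRR.IsRegSheaf r Y F := by
  refine isRegSheaf_of_charts hF h hs fun i q hq => ?_
  have h1 := (hv i).subsingleton (PerfA.QCohSerre.isQCoh_restrict _ hF) q hq
  rw [hh_iff, zero_sub] at h1
  exact Fga.HShift.subsingleton_of_iso (PChart.restrictTensorIso r (h i) (-(q : ℤ)) F).symm q h1

/-- Higher cohomology of nonnegative twists on charts. -/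
theorem subsingleton_chart_tw {F : (CohB1.ProjSpaceOver r Y).Modules} (hF : Coh.IsQCoh F)
    (hreg : KRR.IsRegSheaf r Y F) {A : Type u} [CommRing A] (h : Spec (CommRingCat.of A) ⟶ Y)
    [IsOpenImmersion h] (q : ℕ) (hq : 1 ≤ q) (j : ℤ) (hj : -(q : ℤ) ≤ j) :
    Subsingleton (Coh.HH (CohB1.ProjSpace r A) (((tw r Y j).obj F).restrict (PChart.chart r h)) q) := by
  have h1 := CMReg.subsingleton_HH (PerfA.QCohSerre.isQCoh_restrict _ hF) (reg_chart hF hreg h) q hq j
    (by omega)
  rw [hh_iff] at h1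
  exact Fga.HShift.subsingleton_of_iso (PChart.restrictTensorIso r h j F).symm q h1

/-- `p_*` of nonnegative twists of a regular bundle is a bundle (`Y` locally Noetherian). -/
theorem isFinLocFree_push_tw [IsLocallyNoetherian Y] {F : (CohB1.ProjSpaceOver r Y).Modules}
    (hF : FlatMod.IsFinLocFree F) (hreg : KRR.IsRegSheaf r Y F) (n : ℕ) :
    FlatMod.IsFinLocFree ((Scheme.Modules.pushforward (CohB1.ProjSpaceOver.toBase r Y)).obj
      ((tw r Y (n : ℤ)).obj F)) := by
  obtain ⟨ι, A, inst, h, hop, hs⟩ := exists_charts_big Y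
  have hE : FlatMod.IsFinLocFree ((tw r Y (n : ℤ)).obj F) := isFinLocFree_tw r Y _ F hF
  refine PushLocal.isFinLocFree_pushforward hs (fun i => PChart.isPullback_chart r (h i)) _ fun i => ?_
  have hN := isNoetherianRing_chart (h i)
  have hR : FlatMod.IsFinLocFree (((tw r Y (n : ℤ)).obj F).restrict (PChart.chart r (h i))) :=
    Dcoh.FinLocFree.isFinLocFree_restrict hE _
  refine PushFlat.isFinLocFree_push_projSpace r (A i) _ hR
    (fun q hq => subsingleton_chart_tw (isQCoh_of_flf hF) hreg (h i) q hq _ (by omega)) ?_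
  refine S3197.finitePresentation_push r (A i) _ ?_
  have h1 : Module.Finite (A i) (Coh.HH (CohB1.ProjSpace r (A i))
      (((tw r Y (n : ℤ)).obj F).restrict (PChart.chart r (h i))) 0) :=
    S0038.result r (A i) _ (PerfA.CohSerre.isCoh_of_isFinLocFree hR) 0
  exact Module.finitePresentation_of_finite _ _

theorem regF_of_isRegSheaf [IsLocallyNoetherian Y] {F : (CohB1.ProjSpaceOver r Y).Modules}
    (hF : FlatMod.IsFinLocFree F) (hreg : KRR.IsRegSheaf r Y F)
    {ι : Type} (A : ι → Type u) [∀ i, CommRing (A i)]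
    (h : ∀ i, Spec (CommRingCat.of (A i)) ⟶ Y) [∀ i, IsOpenImmersion (h i)] : RegF r A h F :=
  ⟨hF, fun i q hq => subsingleton_chart_of_isRegSheaf (isQCoh_of_flf hF) hreg (h i) q hq,
    fun n => isFinLocFree_push_tw hF hreg n⟩

theorem isRegSheaf_of_regF {F : (CohB1.ProjSpaceOver r Y).Modules}
    {ι : Type} {A : ι → Type u} [∀ i, CommRing (A i)]
    {h : ∀ i, Spec (CommRingCat.of (A i)) ⟶ Y} [∀ i, IsOpenImmersion (h i)]
    (hs : ∀ s : Y, ∃ i, s ∈ Set.range (h i)) (hF : RegF r A h F) : KRR.IsRegSheaf r Y F :=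
  isRegSheaf_of_charts (isQCoh_of_flf hF.1) h hs hF.2.1

/-- `p_*` of a regular bundle is a bundle (`Y` locally Noetherian). -/
theorem isFinLocFree_push [IsLocallyNoetherian Y] {F : (CohB1.ProjSpaceOver r Y).Modules}
    (hF : FlatMod.IsFinLocFree F) (hreg : KRR.IsRegSheaf r Y F) :
    FlatMod.IsFinLocFree ((Scheme.Modules.pushforward (CohB1.ProjSpaceOver.toBase r Y)).obj F) := by
  obtain ⟨e⟩ := nonempty_tw_zero r Y F
  exact Dcoh.FinLocFree.isFinLocFree_of_iso
    ((Scheme.Modules.pushforward (CohB1.ProjSpaceOver.toBase r Y)).mapIso e)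
    (isFinLocFree_push_tw hF hreg 0)

/-- Vanishing of the cohomology of the twists of `p^* E` on the charts. -/
theorem subsingleton_chart_pull {E : Y.Modules} (hE : FlatMod.IsFinLocFree E) (j : ℤ)
    {A : Type u} [CommRing A] (h : Spec (CommRingCat.of A) ⟶ Y) [IsOpenImmersion h]
    (q : ℕ) (hq : 1 ≤ q) (hj : -(q : ℤ) ≤ j) :
    Subsingleton (Coh.HH (CohB1.ProjSpace r A) (((tw r Y j).obj
      ((Scheme.Modules.pullback (CohB1.ProjSpaceOver.toBase r Y)).obj E)).restrict (PChart.chart r h)) q) := by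
  by_cases hqr : q ≤ r
  · exact PullVan.subsingleton_HH_pullback r h E hE j q (Or.inl ⟨hq, by omega⟩)
  · have hQ : Coh.IsQCoh (((tw r Y j).obj
      ((Scheme.Modules.pullback (CohB1.ProjSpaceOver.toBase r Y)).obj E)).restrict (PChart.chart r h)) :=
      PerfA.QCohSerre.isQCoh_restrict _ (isQCoh_of_flf (isFinLocFree_tw r Y j _
        (PerfB.FlatPull.isFinLocFree_pullback _ hE)))
    exact S0022.result r A _ q (by omega)

/-- `O(i) ⊗ p^* E` is regular for `i ≥ 0`. -/
theorem isRegSheaf_tw_pull {E : Y.Modules} (hE : FlatMod.IsFinLocFree E) (i : ℤ) (hi : 0 ≤ i) :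
    KRR.IsRegSheaf r Y ((tw r Y i).obj
      ((Scheme.Modules.pullback (CohB1.ProjSpaceOver.toBase r Y)).obj E)) := by
  obtain ⟨ι, A, inst, h, hop, hs⟩ := exists_charts_big Y
  have hv : FlatMod.IsFinLocFree ((tw r Y i).obj
      ((Scheme.Modules.pullback (CohB1.ProjSpaceOver.toBase r Y)).obj E)) :=
    isFinLocFree_tw r Y i _ (PerfB.FlatPull.isFinLocFree_pullback _ hE)
  refine isRegSheaf_of_charts (isQCoh_of_flf hv) h hs fun k q hq => ?_
  obtain ⟨e⟩ := nonempty_tw_tw r Y (-(q : ℤ)) i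
    ((Scheme.Modules.pullback (CohB1.ProjSpaceOver.toBase r Y)).obj E)
  exact Fga.HShift.subsingleton_of_iso
    ((Scheme.Modules.restrictFunctor (PChart.chart r (h k))).mapIso e.symm) q
    (subsingleton_chart_pull hE (-(q : ℤ) + i) (h k) q hq (by omega))

/-- `p^* E` is regular. -/
theorem isRegSheaf_pull {E : Y.Modules} (hE : FlatMod.IsFinLocFree E) :
    KRR.IsRegSheaf r Y ((Scheme.Modules.pullback (CohB1.ProjSpaceOver.toBase r Y)).obj E) := by
  obtain ⟨ι, A, inst, h, hop, hs⟩ := exists_charts_big Y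
  have hv := PerfB.FlatPull.isFinLocFree_pullback (CohB1.ProjSpaceOver.toBase r Y) hE
  exact isRegSheaf_of_charts (isQCoh_of_flf hv) h hs fun k q hq =>
    subsingleton_chart_pull hE _ (h k) q hq le_rfl

end Groth.Agent.Krr.H497.Reg
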